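import Cfsg.Agent.TAB.Eng.Gram
import Cfsg.Agent.TAB.Eng.Cov
import Cfsg.Agent.TAB.Sm2.Fin
import Cfsg.Agent.Characters.Central

/-!
# TwoF SP-B2: products of conjugates and single classes from a character table (helper88)

* `exists_prod`, `exists_prod_ord` : for all `x`, `y` some `a x a⁻¹ y` has a good type (certificate on the rows);
* `one_of_count` : a type is one class.
-/

set_option autoImplicit false

namespace Cfsg.Agent.TwoF.SpO

open Cfsg Cfsg.Agent.TAB.Eng Cfsg.Agent.TAB.Use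

universe u

variable {G : Type u} [Group G] {D : Dat} {T : TD G D}

/-- the row is an irreducible character -/
def IrrRow (T : TD G D) (w : List ℤ) : Prop :=
  ∃ χ : G → ℂ, IsIrrCharacter G χ ∧ ∀ g, χ g = (nth w (T.ty g) : ℂ)

theorem irr_of_rel {R : Rows} (h : Tab T R) {r : List (ℕ × ℤ) × List ℤ} (hr : r ∈ R.rel) {j : ℕ}
    (h1 : r.1 = [(j, 1)]) (hj : j < R.n) : IrrRow T r.2 := by
  obtain ⟨χ, hE, hR⟩ := h
  exact ⟨χ j, hE.irr j hj, fun g => by rw [hR.row hr h1, nth_eq]⟩

/-- the rows of a table which are irreducible characters -/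
def irows (R : Rows) : List (List ℤ) :=
  (R.rel.filter fun r => r.1.length == 1 && r.1.all fun p => decide (p.1 < R.n) && p.2 == 1).map Prod.snd

theorem irr_irows {R : Rows} (h : Tab T R) : ∀ w ∈ irows R, IrrRow T w := by
  intro w hw
  obtain ⟨r, hr, rfl⟩ := List.mem_map.1 hw
  obtain ⟨h1, h2⟩ := List.mem_filter.1 hr
  rw [Bool.and_eq_true, beq_iff_eq, List.length_eq_one_iff] at h2
  obtain ⟨⟨⟨j, a⟩, h2⟩, h3⟩ := h2
  rw [h2, List.all_cons, List.all_nil, Bool.and_true, Bool.and_eq_true, decide_eq_true_eq, beq_iff_eq] at h3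
  obtain ⟨h3, h4⟩ := h3
  obtain rfl : a = 1 := h4
  exact irr_of_rel h h1 h2 h3

theorem irr_mkRows {A B : List (List ℤ)} (h : Tab T (TAB.Sm2.mkRows A B)) : ∀ w ∈ A, IrrRow T w := by
  intro w hw
  obtain ⟨j, hj, rfl⟩ := List.getElem_of_mem hw
  have h1 : TAB.Sm2.rw' A B j = A[j] := by
    rw [TAB.Sm2.rw', List.getD_append _ _ _ _ hj, List.getD_eq_getElem _ _ hj]
  refine irr_of_rel h (r := ([(j, 1)], A[j])) (List.mem_append_left _ ?_) rfl ?_
  · exact List.mem_map.2 ⟨j, List.mem_range.2 hj, by rw [h1]⟩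
  · show j < (List.map _ _).length
    rw [List.length_map, List.length_range]
    omega

theorem IrrRow.sum [Fintype G] {w : List ℤ} (h : IrrRow T w) (h1 : T.ty 1 = 0) (x y : G) :
    ∑ a, nth w 0 * nth w (T.ty (a * x * a⁻¹ * y)) = Nat.card G * (nth w (T.ty x) * nth w (T.ty y)) := by
  obtain ⟨χ, h2, h3⟩ := h
  have h4 := Characters.Central.sum_char_conj_mul h2 x y
  rw [eq_div_iff (Characters.Central.irr_one_ne_zero h2)] at h4
  simp only [h3, h1] at h4
  rw [← Finset.mul_sum, mul_comm, ← mul_assoc]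
  exact_mod_cast h4

/-- `V + ∑ z_i w_i(1) w_i` -/
noncomputable def accP (z : List ℤ) : List (List ℤ) → List ℤ → List ℤ :=
  List.rec (fun _ V => V) (fun a _ ih W V => List.rec V (fun w W' _ =>
    frcZ (Int.mul a (nth w 0)) fun p => frcLZ (axz p V w) fun V' => ih W' V') W) z

/-- `∑ z_i w_i(s) w_i(t)` -/
noncomputable def sumP (s t : ℕ) (z : List ℤ) : List (List ℤ) → ℤ :=
  List.rec (fun _ => 0) (fun a _ ih W => List.rec 0 (fun w W' _ =>
    frcZ (ih W') fun h => Int.add (Int.mul a (Int.mul (nth w s) (nth w t))) h) W) z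

theorem sum_accP [Fintype G] (h1 : T.ty 1 = 0) (x y : G) (z : List ℤ) : ∀ (W : List (List ℤ)) (V : List ℤ),
    (∀ w ∈ W, IrrRow T w) → V.length = D.n → ∑ a, nth (accP z W V) (T.ty (a * x * a⁻¹ * y)) =
      ∑ a, nth V (T.ty (a * x * a⁻¹ * y)) + Nat.card G * sumP (T.ty x) (T.ty y) z W := by
  induction z with
  | nil => exact fun W V _ _ => (add_zero _).symm.trans (congrArg _ (mul_zero _).symm)
  | cons c z ih =>
    intro W V hW hV
    cases W with
    | nil => exact (add_zero _).symm.trans (congrArg _ (mul_zero _).symm)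
    | cons w W =>
      have e1 : accP (c :: z) (w :: W) V = accP z W (axz (c * nth w 0) V w) :=
        (frcZ_eq (c * nth w 0) fun p => frcLZ (axz p V w) fun V' => accP z W V').trans (frcLZ_eq _ _)
      have e2 : sumP (T.ty x) (T.ty y) (c :: z) (w :: W) =
          c * (nth w (T.ty x) * nth w (T.ty y)) + sumP (T.ty x) (T.ty y) z W := frcZ_eq _ _
      rw [e1, e2, ih W _ (fun v hv => hW v (List.mem_cons_of_mem _ hv)) ((length_axz _ _ _).trans hV),
        Finset.sum_congr rfl fun a _ => nth_axz _ _ _ (hV ▸ T.lt _), Finset.sum_add_distrib]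
      simp only [mul_assoc c]
      rw [← Finset.mul_sum, (hW w List.mem_cons_self).sum h1]
      ring

/-- the check of a certificate `z` -/
noncomputable def okProd (D : Dat) (W : List (List ℤ)) (good : ℕ → Bool) (s t : ℕ) (z : List ℤ) : Bool :=
  frcLZ (accP z W (List.replicate D.n 0)) fun V =>
    allL (fun u => good u || decide (nth V u ≤ 0)) (List.range D.n) && decide (0 < sumP s t z W)

/-- **products of conjugates** -/
theorem exists_prod [Finite G] (h1 : T.ty 1 = 0) {W : List (List ℤ)} (hW : ∀ w ∈ W, IrrRow T w) {good : ℕ → Bool}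
    {s t : ℕ} {z : List ℤ} (h : okProd D W good s t z = true) {x y : G} (hx : T.ty x = s) (hy : T.ty y = t) :
    ∃ a, good (T.ty (a * x * a⁻¹ * y)) = true := by
  have := Fintype.ofFinite G
  subst hx hy
  rw [okProd, frcLZ_eq, Bool.and_eq_true, decide_eq_true_eq] at h
  by_contra h2
  have h3 := sum_accP h1 x y z W _ hW (List.length_replicate (a := 0))
  have h4 : ∑ a, nth (accP z W (List.replicate D.n 0)) (T.ty (a * x * a⁻¹ * y)) ≤ 0 :=
    Finset.sum_nonpos fun a _ => by
      have h5 := allL_spec h.1 _ (List.mem_range.2 (T.lt (a * x * a⁻¹ * y)))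
      rw [Bool.or_eq_true, decide_eq_true_eq] at h5
      exact h5.resolve_left fun h6 => h2 ⟨a, h6⟩
  have h5 : ∑ a, nth (List.replicate D.n 0) (T.ty (a * x * a⁻¹ * y)) = 0 :=
    Finset.sum_eq_zero fun a _ => by rw [nth_eq, List.getD_replicate _ (T.lt _)]
  have h6 : (0 : ℤ) < Nat.card G := by exact_mod_cast Nat.card_pos
  have h7 := mul_pos h6 h.2
  omega

/-- certificates for all the types of order `p` -/
noncomputable def okOrdP (D : Dat) (W : List (List ℤ)) (good : ℕ → Bool) (p : ℕ) (C : List (ℕ × List ℤ)) : Bool :=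
  allL (fun c => okProd D W good c.1 c.1 c.2) C &&
    allL (fun u => D.ord u != p || C.any fun c => c.1 == u) (List.range D.n)

theorem exists_prod_ord [Finite G] (h1 : T.ty 1 = 0) {W : List (List ℤ)} (hW : ∀ w ∈ W, IrrRow T w)
    {good : ℕ → Bool} {p : ℕ} {C : List (ℕ × List ℤ)} (h : okOrdP D W good p C = true) {x : G}
    (hx : orderOf x = p) : ∃ a, good (T.ty (a * x * a⁻¹ * x)) = true := by
  rw [okOrdP, Bool.and_eq_true] at h
  have h2 := allL_spec h.2 _ (List.mem_range.2 (T.lt x))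
  rw [← T.ord, hx, bne_self_eq_false, Bool.false_or, List.any_eq_true] at h2
  obtain ⟨c, h3, h4⟩ := h2
  rw [beq_iff_eq] at h4
  exact exists_prod h1 hW (allL_spec h.1 c h3) h4.symm h4.symm

/-- the order of the product is divisible by `s` -/
theorem exists_prod_dvd [Finite G] (h1 : T.ty 1 = 0) {W : List (List ℤ)} (hW : ∀ w ∈ W, IrrRow T w)
    {p s : ℕ} {C : List (ℕ × List ℤ)} (h : okOrdP D W (fun u => D.ord u % s == 0) p C = true) {x : G}
    (hx : orderOf x = p) : ∃ a, s ∣ orderOf (a * x * a⁻¹ * x) := by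
  obtain ⟨a, ha⟩ := exists_prod_ord h1 hW h hx
  exact ⟨a, by rw [T.ord]; exact Nat.dvd_of_mod_eq_zero (beq_iff_eq.1 ha)⟩

theorem ty_one (h : ((List.range D.n).all fun i => i == 0 || D.ord i != 1) = true) : T.ty 1 = 0 := by
  have h1 := List.all_eq_true.1 h _ (List.mem_range.2 (T.lt 1))
  rwa [← T.ord, orderOf_one, bne_self_eq_false, Bool.or_false, beq_iff_eq] at h1

theorem card_classes [Finite G] {R : Rows} (h : Tab T R) : Nat.card (ConjClasses G) = R.n := by
  obtain ⟨χ, hE, -⟩ := h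
  rw [← Characters.Core.card_irr]
  refine ((Nat.card_eq_of_bijective (fun j : Fin R.n => (⟨χ j, hE.irr j j.2⟩ : IrrCharacter G)) ⟨?_, ?_⟩).symm).trans
    (Nat.card_fin _)
  · exact fun i j e => Fin.ext (hE.inj i i.2 j j.2 (congrArg Subtype.val e))
  · intro ψ
    obtain ⟨j, hj, e⟩ := hE.all ψ.1 ψ.2
    exact ⟨⟨j, hj⟩, Subtype.ext e.symm⟩

/-- `(t, u, k)` : the `k`-th powers of the elements of type `u` have the type `t`, and `t` is not one class -/
def okSplit (D : Dat) (n : ℕ) (S : List (ℕ × ℕ × ℕ)) : Bool :=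
  decide (n ≤ D.n + S.length) && decide (S.map Prod.fst).Nodup && S.all fun x =>
    decide (x.1 < D.n) && decide (x.2.1 < D.n) && D.pwf x.2.1 x.2.2 == x.1 && decide (D.N < D.cnt x.1 * D.ord x.2.1)

/-- **the other types are single classes** -/
theorem one_of_count [Finite G] {R : Rows} (h : Tab T R) (hm : T.Mass) (hI : Inh T) {S : List (ℕ × ℕ × ℕ)}
    (hS : okSplit D R.n S = true) {s : ℕ} (hs : s < D.n) (hs' : s ∉ S.map Prod.fst) : One T s := by
  classical
  have := Fintype.ofFinite (ConjClasses G)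
  simp only [okSplit, Bool.and_eq_true, decide_eq_true_eq, List.all_eq_true, beq_iff_eq] at hS
  obtain ⟨⟨h1, h2⟩, h3⟩ := hS
  let f : ConjClasses G → ℕ := Quotient.lift T.ty fun _ _ e => (TD.ty_isConj e).symm
  have key : ∀ t < D.n, ¬ One T t → 2 ≤ (Finset.univ.filter fun c => f c = t).card := fun t ht h4 => by
    obtain ⟨x, hx⟩ := hI t ht
    by_contra h5
    refine h4 ⟨x, hx, ?_⟩
    rw [← hm.2 t ht, ← card_class x]
    have h6 : ∀ g, T.ty g = t → IsConj x g := fun g hg => ConjClasses.mk_eq_mk_iff_isConj.1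
      (Finset.card_le_one.1 (Nat.le_of_lt_succ (not_le.1 h5)) (ConjClasses.mk x)
        (Finset.mem_filter.2 ⟨Finset.mem_univ _, hx⟩) (ConjClasses.mk g) (Finset.mem_filter.2 ⟨Finset.mem_univ _, hg⟩))
    exact Nat.mul_le_mul_right _ (Nat.card_le_card_of_injective (Subtype.map id h6)
      (Subtype.map_injective h6 Function.injective_id))
  have h4 : ∀ t ∈ S.map Prod.fst, t < D.n ∧ ¬ One T t := fun t ht => by
    obtain ⟨x, hx, rfl⟩ := List.mem_map.1 ht
    obtain ⟨⟨⟨h4, h5⟩, h6⟩, h7⟩ := h3 x hx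
    refine ⟨h4, fun h8 => ?_⟩
    obtain ⟨g, hg⟩ := hI _ h5
    have h9 := h8.card hm (b := g ^ x.2.2) (by rw [T.pow, hg, h6])
    have h10 : orderOf g ≤ Nat.card (Subgroup.centralizer ({g ^ x.2.2} : Set G)) := by
      rw [← Nat.card_zpowers]
      exact Subgroup.card_le_of_le (Subgroup.zpowers_le.2 (Subgroup.mem_centralizer_singleton_iff.2
        (Commute.self_pow g _).eq))
    rw [T.ord, hg] at h10
    have := Nat.mul_le_mul_left (D.cnt x.1) h10
    omega
  by_contra h5
  have h6 := Finset.card_eq_sum_card_fiberwise (s := Finset.univ) (t := Finset.range D.n) (f := f)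
    fun c _ => by
      obtain ⟨g, rfl⟩ := ConjClasses.mk_surjective c
      exact Finset.mem_coe.2 (Finset.mem_range.2 (T.lt g))
  rw [Finset.card_univ, ← Nat.card_eq_fintype_card, card_classes h] at h6
  have h7 : (s :: S.map Prod.fst).toFinset ⊆ Finset.range D.n := fun t ht => by
    rcases List.mem_cons.1 (List.mem_toFinset.1 ht) with rfl | ht
    exacts [Finset.mem_range.2 hs, Finset.mem_range.2 (h4 t ht).1]
  have h8 : ∑ t ∈ Finset.range D.n, (1 + if t ∈ (s :: S.map Prod.fst).toFinset then 1 else 0) ≤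
      ∑ t ∈ Finset.range D.n, (Finset.univ.filter fun c => f c = t).card := Finset.sum_le_sum fun t ht => by
    have ht := Finset.mem_range.1 ht
    split_ifs with h9
    · rcases List.mem_cons.1 (List.mem_toFinset.1 h9) with rfl | h9
      exacts [key _ ht h5, key _ ht (h4 t h9).2]
    · obtain ⟨x, hx⟩ := hI t ht
      exact Finset.card_pos.2 ⟨ConjClasses.mk x, Finset.mem_filter.2 ⟨Finset.mem_univ _, hx⟩⟩
  rw [Finset.sum_add_distrib, Finset.sum_ite_mem, Finset.inter_eq_right.2 h7, ← Finset.card_eq_sum_ones,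
    ← Finset.card_eq_sum_ones, Finset.card_range, List.toFinset_card_of_nodup (List.nodup_cons.2 ⟨hs', h2⟩),
    List.length_cons, List.length_map] at h8
  omega

end Cfsg.Agent.TwoF.SpO
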