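import Cfsg.Agent.TwoF.Gen.ASmall
import Cfsg.Agent.TwoF.Gen.BCov
import Cfsg.Agent.TwoF.Gen.BLay

/-!
# TwoF SP-B2: tools for the sporadic rows in odd characteristic (helper88)

* `noOff_of_prod` : every element `x` of order `p` has a conjugate `x'` with `s ∣ |x x'|`;
* `cub_of_le` : the equality lemma for `p = 3`;
* `dvd_cod_of_sylow` : the centre of a non-abelian Sylow subgroup of order `r ^ 3`;
* `griesmer` : a bound for the rank of elementary abelian `3`-subgroups.
-/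

set_option autoImplicit false

namespace Cfsg.Agent.TwoF.SpO

open Module Gen Subgroup
open scoped commutatorElement

section

variable {k : Type*} [Field k] {Y : Type*} [Group Y] {V : Type*} [AddCommGroup V] [Module k V]
  {ρ : Representation k Y V} [FiniteDimensional k V]

theorem cod_pow_le (g : Y) (n : ℕ) : cod ρ (zpowers (g ^ n)) ≤ cod ρ (zpowers g) :=
  cod_mono (zpowers_le.2 (pow_mem (mem_zpowers g) n))

theorem cod_prod_le (a x : Y) : cod ρ (zpowers (a * x * a⁻¹ * x)) ≤ 2 * cod ρ (zpowers x) := by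
  have h := cod_zpowers_mul_le (ρ := ρ) (a * x * a⁻¹) x
  rw [cod_zpowers_conj] at h
  omega

theorem cod_congr {a b : Y} (h : ρ a = ρ b) : cod ρ (zpowers a) = cod ρ (zpowers b) := by
  rw [cod_zpowers, cod_zpowers, h]

/-- an element whose order is divisible by the prime `s` -/
theorem le_cod_of_dvd [Finite Y] [Finite k] [Finite V] (hf : Function.Injective ρ) {s n : ℕ} (hs : s.Prime)
    (hk : ¬ s ∣ Nat.card k) (hn : ∀ d, 0 < d → d < n → Nat.card k ^ d % s ≠ 1 % s) {g : Y} (hg : s ∣ orderOf g) :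
    n ≤ cod ρ (zpowers g) := by
  have : Fact s.Prime := ⟨hs⟩
  have h1 := orderOf_pow_orderOf_div (orderOf_pos g).ne' hg
  refine le_trans (le_cod_of_order hf hk hn (IsPGroup.of_card (n := 1) (by rw [Nat.card_zpowers, h1, pow_one]))
    fun e => ?_) (cod_pow_le g _)
  rw [zpowers_eq_bot.1 e, orderOf_one] at h1
  exact hs.one_lt.ne h1

/-- **the equality lemma** -/
theorem cub_of_le [CharP k 3] {A : Subgroup Y} [Finite A] (hA : IsElementaryAbelian 3 A)
    (h : ∀ a ∈ A, a ≠ 1 → cod ρ A ≤ cod ρ (zpowers a)) : Cub ρ A := by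
  have : Fact (Nat.Prime 3) := ⟨Nat.prime_three⟩
  by_contra e
  obtain ⟨v, h4, h3⟩ := exists_asc_four (elemAb_isPGroup hA) e
  obtain ⟨a, ha, b, hb, hv⟩ := exists_sq_ne (p := 3) (by decide) (fun a ha b hb => elemAb_comm hA ha hb) h4 h3
  have h1 : a ≠ 1 := by
    rintro rfl
    exact hv (by simp)
  have h2 : fx ρ A = fx ρ (zpowers a) := by
    refine Submodule.eq_of_le_of_finrank_le (fx_anti (zpowers_le.2 ha)) ?_
    have h5 := h a ha h1
    have h6 := cod_add (ρ := ρ) A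
    have h7 := cod_add (ρ := ρ) (zpowers a)
    omega
  have h5 : (ρ a - 1) ((ρ a - 1) v) ∈ fx ρ A := by
    have := sub_one_pow (ρ := ρ) (p := 3) (n := 1) (by rw [pow_one]; exact hA.2 a ha)
    rw [pow_one, pow_three] at this
    rw [h2, fx_zpowers]
    exact DFunLike.congr_fun this v
  rw [sub_one_comm (elemAb_comm hA ha hb), sub_one_comm (elemAb_comm hA ha hb)] at hv
  exact hv (sub_eq_zero.2 (h5 b hb))

/-- an offender whose rank is at most `e`, all non-trivial elements have codimension at least `2 e` -/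
theorem cub_of_rank [CharP k 3] [Finite Y] {A : Subgroup Y} (hA : Off 3 ρ A) {e : ℕ} (h1 : Nat.card A ≤ 3 ^ e)
    (h2 : ∀ a ∈ A, a ≠ 1 → 2 * e ≤ cod ρ (zpowers a)) : Cub ρ A := by
  have : Fact (Nat.Prime 3) := ⟨Nat.prime_three⟩
  obtain ⟨r, -, h3, h4⟩ := hA.exists_card
  rw [h3, Nat.pow_le_pow_iff_right (by norm_num)] at h1
  exact cub_of_le hA.1 fun a ha h5 => (h4.trans (by omega)).trans (h2 a ha h5)

/-- **the centre of a non-abelian Sylow subgroup of order `r ^ 3`** -/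
theorem dvd_cod_of_sylow [Finite Y] {r : ℕ} (hr : r.Prime) (hk : (r : k) ≠ 0) (h4 : ¬ r ^ 4 ∣ Nat.card Y) {z y : Y}
    (hz : orderOf z = r) (h3 : r ^ 3 ∣ Nat.card (centralizer ({z} : Set Y))) (hy : y ^ r = 1)
    (hy' : ¬ r ^ 3 ∣ Nat.card (centralizer ({y} : Set Y))) : r ∣ cod ρ (zpowers z) := by
  have : Fact r.Prime := ⟨hr⟩
  have hz1 : z ^ r = 1 := hz ▸ pow_orderOf_eq_one z
  have pg : ∀ {G : Type _} [Group G] {g : G}, g ^ r = 1 → IsPGroup r (zpowers g) := fun h =>
    elemAb_isPGroup (elemAb_zpowers h)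
  let z' : centralizer ({z} : Set Y) := ⟨z, mem_centralizer_singleton_iff.2 rfl⟩
  obtain ⟨Q, hQ⟩ := (pg (g := z') (Subtype.ext hz1)).exists_le_sylow
  obtain ⟨P, hP⟩ := (Q.isPGroup'.map (centralizer ({z} : Set Y)).subtype).exists_le_sylow
  have c1 : r ^ 3 ∣ Nat.card (Q : Subgroup (centralizer ({z} : Set Y))) := by
    rw [Q.card_eq_multiplicity]
    exact pow_dvd_pow r ((hr.pow_dvd_iff_le_factorization Nat.card_pos.ne').1 h3)
  have c2 : Nat.card (P : Subgroup Y) ∣ r ^ 3 := by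
    rw [P.card_eq_multiplicity]
    exact pow_dvd_pow r (Nat.le_of_lt_succ (not_le.1 fun h => h4
      ((hr.pow_dvd_iff_le_factorization Nat.card_pos.ne').2 h)))
  rw [← card_map_of_injective (centralizer ({z} : Set Y)).subtype_injective] at c1
  have c3 : Nat.card (P : Subgroup Y) = r ^ 3 := Nat.dvd_antisymm c2 (c1.trans (card_dvd_of_le hP))
  have e : (Q : Subgroup (centralizer ({z} : Set Y))).map (centralizer ({z} : Set Y)).subtype = P :=
    eq_of_le_of_card_ge hP (c3 ▸ Nat.le_of_dvd Nat.card_pos c1)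
  have hc : ∀ q ∈ (P : Subgroup Y), q * z = z * q := fun q hq => by
    rw [← e] at hq
    obtain ⟨q, -, rfl⟩ := hq
    exact mem_centralizer_singleton_iff.1 q.2
  have hzP : z ∈ (P : Subgroup Y) := hP ⟨z', hQ (mem_zpowers _), rfl⟩
  obtain ⟨P', hP'⟩ := (pg hy).exists_le_sylow
  obtain ⟨g, hg⟩ := MulAction.exists_smul_eq Y P' P
  have hyP : g * y * g⁻¹ ∈ (P : Subgroup Y) := by
    rw [← hg]
    exact ⟨y, hP' (mem_zpowers y), rfl⟩
  have hy1 : (g * y * g⁻¹) ^ r = 1 := by rw [conj_pow, hy, mul_one, mul_inv_cancel]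
  have hy2 : ¬ (P : Subgroup Y) ≤ centralizer {g * y * g⁻¹} := fun h => hy' (by
    have h5 : (P : Subgroup Y).map (MulAut.conj g⁻¹).toMonoidHom ≤ centralizer {y} := by
      rintro _ ⟨q, hq, rfl⟩
      have h6 := mem_centralizer_singleton_iff.1 (h hq)
      refine mem_centralizer_singleton_iff.2 ?_
      show g⁻¹ * q * g⁻¹⁻¹ * y = y * (g⁻¹ * q * g⁻¹⁻¹)
      calc _ = g⁻¹ * (q * (g * y * g⁻¹)) * g := by group
        _ = _ := by rw [h6]; group
    rw [← c3, ← card_map_conj g⁻¹]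
    exact card_dvd_of_le h5)
  generalize g * y * g⁻¹ = w at hyP hy1 hy2
  obtain ⟨q, hq, h5⟩ := SetLike.not_le_iff_exists.1 hy2
  have hN : ((zpowers z).subgroupOf (P : Subgroup Y)).Normal := ⟨fun n hn a => by
    obtain ⟨j, hj⟩ := mem_zpowers_iff.1 (mem_subgroupOf.1 hn)
    refine mem_subgroupOf.2 (mem_zpowers_iff.2 ⟨j, ?_⟩)
    show _ = (a : Y) * n * (a : Y)⁻¹
    rw [← hj, (Commute.zpow_right (hc a a.2) j).eq, mul_inv_cancel_right]⟩
  have c4 : Nat.card ((P : Subgroup Y) ⧸ (zpowers z).subgroupOf (P : Subgroup Y)) = r ^ 2 := by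
    have h6 := ((zpowers z).subgroupOf (P : Subgroup Y)).card_eq_card_quotient_mul_card_subgroup
    rw [c3, Nat.card_congr (subgroupOfEquivOfLe (zpowers_le.2 hzP)).toEquiv, Nat.card_zpowers, hz, pow_succ] at h6
    exact (Nat.eq_of_mul_eq_mul_right hr.pos h6).symm
  have h6 : ⁅q, w⁆ ∈ zpowers z := by
    have h7 := (IsPGroup.isMulCommutative_of_card_eq_prime_sq c4).is_comm.comm (QuotientGroup.mk ⟨q, hq⟩)
      (QuotientGroup.mk ⟨w, hyP⟩)
    rw [← commutatorElement_eq_one_iff_mul_comm, ← QuotientGroup.mk'_apply, ← QuotientGroup.mk'_apply,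
      ← map_commutatorElement, QuotientGroup.mk'_apply, QuotientGroup.eq_one_iff] at h7
    exact h7
  have h7 : ⁅q, w⁆ ≠ 1 := fun h => h5 (mem_centralizer_singleton_iff.2 (commutatorElement_eq_one_iff_mul_comm.1 h))
  have h8 : zpowers ⁅q, w⁆ = zpowers z := by
    have : Fact (Nat.card (zpowers z)).Prime := ⟨by rw [Nat.card_zpowers, hz]; exact hr⟩
    refine eq_of_le_of_card_ge (zpowers_le.2 h6) (Nat.le_of_eq ?_)
    refine ((Nat.dvd_prime this.out).1 (card_dvd_of_le (zpowers_le.2 h6))).resolve_left (fun h => h7 ?_) |>.symm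
    rwa [Nat.card_zpowers, orderOf_eq_one_iff] at h
  obtain ⟨j, hj⟩ := mem_zpowers_iff.1 h6
  have h9 := heis_cod_eq (ρ := ρ) (y := w) (z := ⁅q, w⁆) (q := q) (hj ▸ (Commute.zpow_right (hc w hyP) j).eq)
    (hj ▸ (Commute.zpow_right (hc q hq) j).eq)
    (by rw [show w * ⁅q, w⁆ = ⁅q, w⁆ * w from hj ▸ (Commute.zpow_right (hc w hyP) j).eq, commutatorElement_def]; group)
    hr hk hy1 (by rw [← hj, ← zpow_natCast, ← zpow_mul, mul_comm, zpow_mul, zpow_natCast, hz1, one_zpow])
  rw [h8] at h9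
  exact (Nat.dvd_add_right (dvd_mul_right _ _)).1 (h9 ▸ dvd_mul_right _ _)

theorem cod_step (hk : (3 : k) ≠ 0) (hω : ∀ c : k, c ^ 3 = 1 → c = 1) {A B : Subgroup Y}
    (hA : IsElementaryAbelian 3 A) (hB : B ≤ A) (h : cod ρ B < cod ρ A) : cod ρ B + 2 ≤ cod ρ A := by
  by_contra e
  have h1 := cod_add (ρ := ρ) A
  have h2 := cod_add (ρ := ρ) B
  have h3 : fx ρ A < fx ρ B := lt_of_le_of_ne (fx_anti hB) fun h3 => by
    rw [h3] at h1
    omega
  obtain ⟨w, hw, hw'⟩ := SetLike.exists_of_lt h3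
  have h4 : fx ρ A ⊔ Submodule.span k {w} = fx ρ B := by
    refine Submodule.eq_of_le_of_finrank_le (sup_le h3.le ((Submodule.span_singleton_le_iff_mem _ _).2 hw)) ?_
    have h5 := Submodule.finrank_lt_finrank_of_lt (s := fx ρ A) (t := fx ρ A ⊔ Submodule.span k {w})
      (lt_of_le_of_ne le_sup_left fun h => hw' (h ▸ Submodule.mem_sup_right (Submodule.mem_span_singleton_self w)))
    omega
  refine hw' fun a ha => ?_
  have h5 : ρ a w ∈ fx ρ B := fun b hb => by rw [← rho_mul, elemAb_comm hA (hB hb) ha, rho_mul, hw b hb]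
  rw [← h4] at h5
  obtain ⟨u, hu, _, h6, h7⟩ := Submodule.mem_sup.1 h5
  obtain ⟨c, rfl⟩ := Submodule.mem_span_singleton.1 h6
  have h8 : ρ a (ρ a (ρ a w)) = w := by rw [← rho_mul, ← rho_mul, ← pow_three', hA.2 a ha, rho_one]
  simp only [← h7, map_add, map_smul, hu a ha] at h8
  have h9 : c = 1 := hω c (by
    by_contra h9
    refine hw' ((Submodule.smul_mem_iff _ (sub_ne_zero.2 h9)).1 ?_)
    have h10 : (c ^ 3 - 1) • w = -((1 + c + c ^ 2) • u) := by linear_combination (norm := module) h8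
    rw [h10]
    exact neg_mem (Submodule.smul_mem _ _ hu))
  subst h9
  have h10 : (3 : k) • u = 0 := by linear_combination (norm := module) h8
  rw [← h7, (smul_eq_zero.1 h10).resolve_left hk, zero_add, one_smul]

/-- a subgroup of index `r` with a larger fixed space -/
theorem exists_hyper [Finite Y] {r : ℕ} (hr : r.Prime) (hk : (r : k) ≠ 0) {A : Subgroup Y}
    (hA : IsElementaryAbelian r A) {a : Y} (ha : a ∈ A) (h : ρ a ≠ 1) :
    ∃ B ≤ A, r * Nat.card B = Nat.card A ∧ cod ρ B < cod ρ A := by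
  obtain ⟨χ, h1, h2⟩ := exists_wt (ρ := bc (AlgebraicClosure k) ρ) (R := A) (fun a ha b hb => elemAb_comm hA ha hb)
    (card_ne_zero_closure (card_ne_zero_of_exp hr hk hA.2)) (r := ⟨a, ha⟩) fun e => h
      (baseChange_injective (AlgebraicClosure k) (e.trans (LinearMap.baseChange_one _ _).symm))
  have h3 := index_ker_char hr hA.2 (χ := χ) fun e => h1 (by rw [e]; rfl)
  refine ⟨χ.ker.map A.subtype, map_subtype_le _, ?_, ?_⟩
  · rw [card_map_of_injective A.subtype_injective, ← h3, index_mul_card]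
  · rw [← cod_bc (AlgebraicClosure k), ← cod_bc (AlgebraicClosure k) A]
    have h4 := wt_le_fx (ρ := bc (AlgebraicClosure k) ρ) (χ := χ) (map_subtype_le χ.ker) fun r hr => by
      obtain ⟨s, hs, e⟩ := hr
      exact Subtype.ext e ▸ hs
    have h5 := wt_inf_fx (ρ := bc (AlgebraicClosure k) ρ) (χ := χ) (B := A) fun h => h1 (h _ ha)
    have h6 := Submodule.finrank_lt_finrank_of_lt (lt_of_le_of_ne (fx_anti (ρ := bc (AlgebraicClosure k) ρ)
      (map_subtype_le χ.ker)) fun e => mlt_pos_iff.1 h2 (by rw [← h5, e, inf_eq_left.2 h4]))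
    have h7 := cod_add (ρ := bc (AlgebraicClosure k) ρ) A
    have h8 := cod_add (ρ := bc (AlgebraicClosure k) ρ) (χ.ker.map A.subtype)
    omega

/-- **the Griesmer bound**: all non-trivial elements have codimension at least `3 m` -/
theorem griesmer [Finite Y] (hk : (3 : k) ≠ 0) (hω : ∀ c : k, c ^ 3 = 1 → c = 1) {m : ℕ} (hm : 0 < m) (n : ℕ) :
    ∀ A : Subgroup Y, IsElementaryAbelian 3 A → (∀ a ∈ A, a ≠ 1 → 3 * m ≤ cod ρ (zpowers a)) →
      Nat.card A = 3 ^ (n + 2) → 4 * m + 2 * n ≤ cod ρ A := by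
  induction n with
  | zero =>
    intro A hA h hc
    classical
    have := Fintype.ofFinite A
    have h1 := sum_cod_elt (ρ := ρ) (fun a ha b hb => elemAb_comm hA ha hb) Nat.prime_three (by exact_mod_cast hk) hA.2
    have h2 := Finset.card_nsmul_le_sum (Finset.univ.erase (1 : A)) (fun e : A => cod ρ (zpowers (e : Y))) (3 * m)
      fun e he => h e e.2 fun h3 => (Finset.mem_erase.1 he).1 (Subtype.ext h3)
    have h3 := Finset.sum_le_sum_of_subset (f := fun e : A => cod ρ (zpowers (e : Y)))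
      (Finset.erase_subset (1 : A) Finset.univ)
    rw [Finset.card_erase_of_mem (Finset.mem_univ _), Finset.card_univ, ← Nat.card_eq_fintype_card, hc,
      smul_eq_mul] at h2
    rw [hc] at h1
    omega
  | succ n ih =>
    intro A hA h hc
    obtain ⟨a, ha, h1⟩ : ∃ a ∈ A, a ≠ 1 := (A.bot_or_exists_ne_one).resolve_left fun e => by
      rw [e, card_bot] at hc
      exact (Nat.one_lt_pow (by omega) (by norm_num)).ne hc
    obtain ⟨B, h2, h3, h4⟩ := exists_hyper (ρ := ρ) Nat.prime_three (by exact_mod_cast hk) hA ha fun e => by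
      have h2 := h a ha h1
      rw [cod_congr (e.trans (map_one ρ).symm), zpowers_one_eq_bot, cod_bot] at h2
      omega
    have h5 := ih B (elemAb_of_le hA h2) (fun b hb => h b (h2 hb)) (by rw [hc, pow_succ] at h3; omega)
    have h6 := cod_step hk hω hA h2 h4
    omega

end

variable {p : ℕ} [Fact p.Prime] {S : Type} [Group S]

/-- **no offender**: `ord_s(p) ≥ n > 4 e`, and `p ^ (e + 1)` does not divide the order -/
theorem noOff_of_prod [Finite S] (ho : ¬ p ∣ Nat.card (Out S)) {s n e : ℕ} (hs : s.Prime) (hsp : s ≠ p)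
    (hn : ∀ d, 0 < d → d < n → p ^ d % s ≠ 1 % s) (hN : ¬ p ^ (e + 1) ∣ Nat.card S) (he : 4 * e < n)
    (h : ∀ x : S, orderOf x = p → ∃ a, s ∣ orderOf (a * x * a⁻¹ * x)) : NoOff p S :=
  noOff_of_sit fun Y _ _ V _ _ _ K ρ π φ H A hA => by
    have hp : p.Prime := Fact.out
    have h1 := H.toFrm.le_of_not_dvd (elemAb_isPGroup hA.1) ho
    obtain ⟨r, -, h2, h3⟩ := hA.exists_card
    have h4 : r ≤ e := Nat.le_of_lt_succ (not_le.1 fun h4 => hN ((pow_dvd_pow p h4).trans (by
      have h5 := card_dvd_of_le h1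
      rw [H.toFrm.card_K, h2] at h5
      exact (((Nat.Prime.coprime_iff_not_dvd hp).2 H.cop).pow_left r).dvd_of_dvd_mul_left h5)))
    obtain ⟨x, hx, h5⟩ := A.bot_or_exists_ne_one.resolve_left hA.2.1
    have h6 : orderOf (π ⟨x, h1 hx⟩) = p := orderOf_eq_prime
      (by rw [← map_pow, show (⟨x, h1 hx⟩ : K) ^ p = 1 from Subtype.ext (hA.1.2 x hx), map_one])
      fun e => h5 (H.toStp.eq_one_of_mem_centralizer (n := 1) (by rw [pow_one]; exact hA.1.2 x hx)
        (H.toFrm.π_eq_one_iff.1 e))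
    obtain ⟨a, ha⟩ := h _ h6
    obtain ⟨a, rfl⟩ := H.surj a
    rw [← map_inv, ← map_mul, ← map_mul, ← map_mul] at ha
    have h7 := le_cod_of_dvd H.faithful hs
      (by rw [Nat.card_zmod]; exact fun h => hsp ((Nat.prime_dvd_prime_iff_eq hs hp).1 h))
      (by rwa [Nat.card_zmod]) (g := a * x * (a : Y)⁻¹ * x)
      ((ha.trans (orderOf_map_dvd π _)).trans (orderOf_coe _).symm.dvd)
    have h8 := cod_prod_le (ρ := ρ) a x
    have h9 := cod_mono (ρ := ρ) (zpowers_le.2 hx)
    omega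

end Cfsg.Agent.TwoF.SpO
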